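import Cfsg.Agent.LFour.Assemble
import Cfsg.Agent.GH.Defs

/-!
# Statement S0510: refined conclusions

`ConclLU G`: `G` is `PSL_4` or `PSU_4` in odd characteristic.  `ConclR G`: the conclusion of S0510 with
`IsMcL G` strengthened by `HasAltCover G`.  The refined branches `BranchA1LU`, `BranchA2A`, `BranchB1LU`, `BranchB5R` give
the refined theorem `mainR` and the branches of `LFour.Concl`.
-/

set_option autoImplicit false

namespace Cfsg.Agent.LFour

open Cfsg.Agent.LFourA.Model Cfsg.Agent.LFourA.Defs Cfsg.Agent.LFourB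
open Cfsg.Agent.GH.Defs (HasAltCover)

universe u v

/-- `PSL_4` or `PSU_4` in odd characteristic. -/
def ConclLU (G : Type u) [Group G] : Prop :=
  (∃ (K : Type) (_ : Field K) (_ : Fintype K), Odd (Fintype.card K) ∧
      Nonempty (G ≃* Matrix.ProjectiveSpecialLinearGroup (Fin 4) K)) ∨
    (∃ (K : Type) (_ : Field K) (_ : Fintype K) (r : ℕ), Fintype.card K = r ^ 2 ∧ Odd r ∧
      Nonempty (G ≃* Cfsg.PSU 4 K r))

/-- The refined conclusion. -/
def ConclR (G : Type u) [Group G] : Prop :=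
  ConclLU G ∨ Nonempty (G ≃* alternatingGroup (Fin 10)) ∨ Nonempty (G ≃* alternatingGroup (Fin 11)) ∨
    Cfsg.IsM22 G ∨ Cfsg.IsM23 G ∨ (HasAltCover G ∧ Cfsg.IsMcL G)

theorem ConclLU.concl {G : Type u} [Group G] (h : ConclLU G) : Concl G := by
  rcases h with h | h
  · exact Or.inl h
  · exact Or.inr (Or.inl h)

theorem ConclLU.conclR {G : Type u} [Group G] (h : ConclLU G) : ConclR G := Or.inl h

theorem ConclR.concl {G : Type u} [Group G] (h : ConclR G) : Concl G := by
  rcases h with h | h | h | h | h | h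
  · exact h.concl
  · exact Or.inr (Or.inr (Or.inl h))
  · exact Or.inr (Or.inr (Or.inr (Or.inl h)))
  · exact Or.inr (Or.inr (Or.inr (Or.inr (Or.inl h))))
  · exact Or.inr (Or.inr (Or.inr (Or.inr (Or.inr (Or.inl h)))))
  · exact Or.inr (Or.inr (Or.inr (Or.inr (Or.inr (Or.inr h.2)))))

/-- Refined branch A1. -/
def BranchA1LU : Prop :=
  ∀ (G : Type u) [Group G] [Finite G] [IsSimpleGroup G] (P : Sylow 2 G) (k : ℕ) (f : D k → D k → G) (w : G),
    DWr (P : Subgroup G) k f w → CaseI f w → ConclLU G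

/-- Refined branch A2. -/
def BranchA2A : Prop :=
  ∀ (G : Type u) [Group G] [Finite G] [IsSimpleGroup G] (P : Sylow 2 G) (k : ℕ) (f : D k → D k → G) (w : G),
    DWr (P : Subgroup G) k f w → CaseII f w →
      Nonempty (G ≃* alternatingGroup (Fin 10)) ∨ Nonempty (G ≃* alternatingGroup (Fin 11))

/-- Refined branch B1. -/
def BranchB1LU : Prop :=
  ∀ (G : Type u) [Group G] [Finite G] [IsSimpleGroup G] (P : Sylow 2 G) (m : ℕ) (f : R m → R m → R m → G) (u w : G),
    BOne (P : Subgroup G) m f u w → ConclLU G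

/-- Refined branch B5. -/
def BranchB5R : Prop :=
  ∀ (G : Type u) [Group G] [Finite G] [IsSimpleGroup G] (P : Sylow 2 G),
    Nonempty ((P : Subgroup G) ≃* M7) →
      ConclLU G ∨ Cfsg.IsM22 G ∨ Cfsg.IsM23 G ∨ (HasAltCover G ∧ Cfsg.IsMcL G)

theorem BranchA1LU.branch (h : BranchA1LU.{u}) : BranchA1.{u} :=
  fun G _ _ _ P k f w h1 h2 => (h G P k f w h1 h2).concl

theorem BranchA2A.branch (h : BranchA2A.{u}) : BranchA2.{u} := by
  intro G _ _ _ P k f w h1 h2
  rcases h G P k f w h1 h2 with h3 | h3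
  · exact Or.inr (Or.inr (Or.inl h3))
  · exact Or.inr (Or.inr (Or.inr (Or.inl h3)))

theorem BranchB1LU.branch (h : BranchB1LU.{u}) : BranchB1.{u} :=
  fun G _ _ _ P m f u w h1 => (h G P m f u w h1).concl

theorem BranchB5R.conclR (h : BranchB5R.{u}) (G : Type u) [Group G] [Finite G] [IsSimpleGroup G] (P : Sylow 2 G)
    (e : Nonempty ((P : Subgroup G) ≃* M7)) : ConclR G := by
  rcases h G P e with h3 | h3 | h3 | h3
  · exact Or.inl h3
  · exact Or.inr (Or.inr (Or.inr (Or.inl h3)))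
  · exact Or.inr (Or.inr (Or.inr (Or.inr (Or.inl h3))))
  · exact Or.inr (Or.inr (Or.inr (Or.inr (Or.inr h3))))

theorem BranchB5R.branch (h : BranchB5R.{u}) : BranchB5.{u} :=
  fun G _ _ _ P e => (h.conclR G P e).concl

/-- **The refined form of S0510 from the four refined branches.** -/
theorem mainR (hA1 : BranchA1LU.{u}) (hA2 : BranchA2A.{u}) (hB1 : BranchB1LU.{u}) (hB5 : BranchB5R.{u})
    {G : Type u} [Group G] [Finite G] [IsSimpleGroup G]
    {F : Type v} [Field F] [Fintype F] (hF : Odd (Fintype.card F)) (S : Sylow 2 G)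
    (P : Sylow 2 (Matrix.ProjectiveSpecialLinearGroup (Fin 4) F))
    (hS : Nonempty ((S : Subgroup G) ≃* (P : Subgroup (Matrix.ProjectiveSpecialLinearGroup (Fin 4) F)))) : ConclR G := by
  have hF2 : Fintype.card F % 2 = 1 := Nat.odd_iff.1 hF
  have h4 : Fintype.card F % 4 = 3 ∨ Fintype.card F % 8 = 1 ∨ Fintype.card F % 8 = 5 := by omega
  rcases h4 with h4 | h4 | h4
  · obtain ⟨k, m, f, w, h, -, -⟩ := Cfsg.Agent.LFourA.SylPsl.exists_dwr h4 (S : Subgroup G) P hS
    have hG := hom_units_trivial (two_lt_card_of_dwr h)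
    obtain ⟨f', h', hc | hc⟩ := Cfsg.Agent.LFourA.FusionMain.main h hG
    · exact (hA1 G S k f' w h' hc).conclR
    · rcases hA2 G S k f' w h' hc with h3 | h3
      · exact Or.inr (Or.inl h3)
      · exact Or.inr (Or.inr (Or.inl h3))
  · obtain ⟨e⟩ := hS
    obtain ⟨m, r, f, u, w, -, -, h⟩ := Cfsg.Agent.LFourB.Mono.exists_BOne h4 S P e
    exact (hB1 G S m f u w h).conclR
  · obtain ⟨e⟩ := hS
    obtain ⟨f, d, h⟩ := Cfsg.Agent.LFourB.Mono.exists_MB_two h4 S P e
    exact hB5.conclR G S (Cfsg.Agent.LFourB.MBSeven.nonempty_equiv h)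

end Cfsg.Agent.LFour
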