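import Cfsg.Agent.LFourB.KEndB
import Cfsg.Agent.LFourB.BOneEnd
import Cfsg.Agent.LFourB.CentXId
import Cfsg.Agent.LFour.ConclR

/-!
# Statement S0510: branch B1
-/

set_option autoImplicit false
set_option linter.unusedSectionVars false

namespace Cfsg.Agent.LFour.BranchBOne

open Subgroup Cfsg Cfsg.Agent.LFourB Cfsg.Agent.LFourB.KTrans Cfsg.Agent.LFourB.ProdCent
open Cfsg.Agent.LFourA.CzCt Cfsg.Agent.LFourA.KlQuot Cfsg.Agent.LFourB.KLoc Cfsg.Agent.LFourB.KForm
open Cfsg.Agent.LFourB.BOneFacts Cfsg.Agent.SylowSp4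

universe u

section

variable {G : Type u} [Group G] [Finite G] {P : Sylow 2 G} {m : ℕ} {f : R m → R m → R m → G} {u w : G}
  {F : Type} [Field F] [Fintype F]
  {K₁ K₂ : Subgroup (centralizer ({z1 f} : Set G) ⧸ Cfsg.oddCore (centralizer ({z1 f} : Set G)))}
  {Q : Sylow 2 ↥(centralizer ({x4 f} : Set G))} {ρ : ↥(centralizer ({x4 f} : Set G))}
  {L : Subgroup ((centralizer ({x4 f} : Set G) : Subgroup G) ⧸
      Cfsg.pPrimeCore 2 (centralizer ({x4 f} : Set G) : Subgroup G))}

theorem mod_eight (h : Facts P m f u w F K₁ K₂ Q ρ L) : Fintype.card F % 8 = 1 ∨ Fintype.card F % 8 = 7 := by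
  rcases h.cmp with ⟨_, _, _, -, h1, -⟩ | ⟨_, _, _, -, h1, -⟩
  · exact Or.inl h1
  · exact Or.inr h1

/-- **Closing.** -/
theorem closing (h : Facts P m f u w F K₁ K₂ Q ρ L) {M : Subgroup G} (h1 : centralizer ({z1 f} : Set G) ≤ M)
    (h2 : normalizer (Tor f : Set G) ≤ M) : M = ⊤ := by
  have hcl : ClDat (P : Subgroup G) f u w M :=
    { toBOne := h.one
      hz := h1
      hT := h2
      hperm := h.perm
      hcent := h.fix
      hd := by
        obtain ⟨d, hd⟩ := h.dd
        exact ⟨d, 0, hd⟩ }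
  have hne : ¬ IsConj (z1 f) (x4 f) := by
    rintro hc
    obtain ⟨g, hg⟩ := isConj_iff.1 hc
    exact h.one.fus_z1_X g 3 hg
  exact hcl.eq_top_of_typ h.Q_eq h.x h.out h.cmp.typ hne

/-- **Everything about `C(z1)`.** -/
theorem exists_in [IsSimpleGroup G] (h : Facts P m f u w F K₁ K₂ Q ρ L) :
    ∃ y, RCon.In P m f u w F (Cfsg.Agent.LFourA.Quot.pr (centralizer ({z1 f} : Set G))) K₁ K₂ y := by
  obtain ⟨n, x, y, hc⟩ := exists_conf h.one h.z12
  have h2 : (2 : F) ≠ 0 := RDefs.RIn.two_ne_zero_of_odd_card h.odd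
  have l := KInstB.locB h.one h.cz hc
  have o := KInstB.orbB h.one h2 h.cz hc
  have hinv : ∀ b ∈ EE f x y, b ∉ HH f x → ∀ a ∈ centralizerPPrimeCore 2 (z1 f), b * a * b⁻¹ = a⁻¹ :=
    fun b hb hbH a ha => KEndB.inv_core h.one h.cz hc h2 (mod_eight h) (fun M h1 h2 => closing h h1 h2) hb hbH ha
  have hyE : y ∈ EE f x y := subset_closure (Or.inr (Or.inr (Or.inr rfl)))
  have hz2E : z2 f ∈ EE f x y := subset_closure (Or.inr (Or.inl rfl))
  have hz2H : z2 f ∈ HH f x := subset_closure (Or.inr (Or.inl rfl))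
  have hyH : y ∉ HH f x := by
    intro hy
    have h3 : EE f x y ≤ HH f x := by
      rw [EE, closure_le]
      rintro g (rfl | rfl | rfl | hg)
      · exact subset_closure (Or.inl rfl)
      · exact subset_closure (Or.inr (Or.inl rfl))
      · exact subset_closure (Or.inr (Or.inr rfl))
      · rw [Set.mem_singleton_iff.1 hg]; exact hy
    have h4 := card_le_of_le h3
    rw [o.card, o.cardH] at h4
    omega
  have hyz : y * z1 f = z1 f * y := o.comm hyE o.z_memE
  have hyy : y * y = 1 := hc.y_y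
  have hinvy := hinv y hyE hyH
  refine ⟨y, ?_⟩
  exact
    { model := h.one
      hz :=
        { surj := h.cz.surj
          ker := h.cz.ker
          comm := h.cz.comm
          z₁ := h.cz.z₁
          z₂ := h.cz.z₂
          inf := h.cz.inf
          norm := h.cz.norm
          cent := l.cent
          e₁ := h.cz.e₁
          e₂ := h.cz.e₂ }
      perf₁ := h.cz.perf₁
      perf₂ := h.cz.perf₂
      q₁ := h.cz.q₁
      q₂ := h.cz.q₂
      s₁ := h.cz.s₁
      s₂ := h.cz.s₂
      yz := hyz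
      yy := hyy
      inv := hinvy
      sw₁ := (l.swap y hyE hyH _).1
      sw₂ := (l.swap y hyE hyH _).2
      cz2 := by
        intro a ha
        have hzy : z2 f * y ∉ HH f x := fun h0 => hyH (by
          have := mul_mem (inv_mem hz2H) h0
          rwa [inv_mul_cancel_left] at this)
        have h3 := hinv (z2 f * y) (mul_mem hz2E hyE) hzy a ha
        have h4 := hinvy a⁻¹ (inv_mem ha)
        have h5 : z2 f * (y * a * y⁻¹) * (z2 f)⁻¹ = a⁻¹ := by rw [← h3]; group
        rw [hinvy a ha] at h5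
        have h6 : z2 f * a * (z2 f)⁻¹ = a := by
          have h7 := congrArg (·⁻¹) h5
          simp only [mul_inv_rev, inv_inv] at h7
          rw [← mul_assoc] at h7
          exact h7
        exact (mul_inv_eq_iff_eq_mul.1 h6).symm }

/-- **Branch B1** from the facts. -/
theorem concl_of_facts [IsSimpleGroup G] (h : Facts P m f u w F K₁ K₂ Q ρ L) : ConclLU G := by
  obtain ⟨y, I⟩ := exists_in h
  exact BOneEnd.conclLU I h.odd h.perm h.fix h.dd h.Q_eq h.x h.out h.cmp.typ

end

/-- **Branch B1.** -/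
theorem branchB1LU
    (hFT : ∀ (K : Type u) [Group K] [Finite K], Odd (Nat.card K) → Group.IsSolvable K)
    (h523 : ∀ (K : Type u) [Group K] [Finite K] [IsSimpleGroup K] (S : Sylow 2 K),
      Cfsg.IsWreathed (S : Subgroup K) →
      (∃ (F : Type) (_ : Field F) (_ : Fintype F), Odd (Fintype.card F) ∧
          Nonempty (K ≃* Matrix.ProjectiveSpecialLinearGroup (Fin 3) F)) ∨
        (∃ (F : Type) (_ : Field F) (_ : Fintype F) (q : ℕ), Fintype.card F = q ^ 2 ∧ Odd q ∧
          Nonempty (K ≃* Cfsg.PSU 3 F q)) ∨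
        Cfsg.IsM11 K)
    (hPT : Hyps.ProductThm.{u}) (hGW : Hyps.GW.{u}) : BranchB1LU.{u} := by
  intro G _ _ _ P m f u w h
  obtain ⟨u', F, _, _, K₁, K₂, Q, ρ, L, hF⟩ := exists_facts hFT h523 hPT hGW P h
  exact concl_of_facts hF

end Cfsg.Agent.LFour.BranchBOne
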