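import Cfsg.Agent.LFour.BFive
import Cfsg.Agent.LFourB.StepSixInst
import Cfsg.Agent.LFourB.KFive
import Cfsg.Agent.LFourB.PreFive
import Cfsg.Agent.LFourB.NumFive
import Cfsg.Agent.LFourB.ClBFive
import Cfsg.Agent.LFourB.InpFiveInst
import Cfsg.Agent.LFourFive.Concl
import Cfsg.Agent.LFourR.Final
import Cfsg.Agent.LFourR.QThreeLU

/-!
# Statement S0510, `q = 5 mod 8`: the pattern (a2) of `PSL_4(q)`, `PSU_4(q)`

`|F| = 3` : `QThreeLU.concl`; `|F| = 5` : `InpFive.concl`; `|F| > 5` : `Final.concl`.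
-/

set_option autoImplicit false

namespace Cfsg.Agent.LFour.PatTwo

open Subgroup Cfsg
open Cfsg.Agent.LFourB M7 MSevenFd MSevenFf
open Cfsg.Agent.LFourR

universe u

/-- **Pattern (a2).** -/
theorem main
    (hC1 : ∀ (G : Type u) [Group G] [Finite G] (P : Sylow 2 G) (A B : Subgroup G), A ⊓ B = ⊥ →
      Cfsg.IsStronglyClosed A (P : Subgroup G) → Cfsg.IsStronglyClosed B (P : Subgroup G) →
      ⁅Subgroup.normalClosure (A : Set G), Subgroup.normalClosure (B : Set G)⁆ ≤ Cfsg.oddCore G)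
    (hGW : ∀ (X : Type u) [Group X] [Finite X] [Group.IsPerfect X]
      (S : Sylow 2 X) (n : ℕ), 2 ≤ n → Nonempty ((S : Subgroup X) ≃* DihedralGroup n) →
      (∃ (F : Type) (_ : Field F) (_ : Fintype F), Odd (Fintype.card F) ∧ 3 < Fintype.card F ∧
        Nonempty (X ⧸ Cfsg.oddCore X ≃* Matrix.ProjectiveSpecialLinearGroup (Fin 2) F)) ∨
      Nonempty (X ⧸ Cfsg.oddCore X ≃* alternatingGroup (Fin 7)))
    (hben : ∀ (L : Type u) [Group L] [Finite L] [IsSimpleGroup L], (∃ a b : L, a * b ≠ b * a) → StepEight.Bender L)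
    (h484 : ∀ (F : Type) [Field F] [Fintype F], St484.{u, 0} F)
    (h485 : ∀ (K : Type) [Field K] [Fintype K] (q : ℕ), St485.{u, 0} K q)
    (R : ∀ (G : Type u) [Group G] [Finite G] [IsSimpleGroup G], QThreeEnd.RecAA G) : BFive.PatTwo.{u} := by
  intro G _ _ _ S φ Fu hτ hQ
  have hE := Fu.emb
  have hG : ∀ H : Subgroup G, H.index ≠ 2 := EightInst.index_ne_two hE
  have hnc := BFive.exists_noncomm hE
  have hB := hben G hnc
  obtain ⟨X, i1, i2, p, K₁, K₂, F, i3, i4, hodd, hC, hS⟩ := StepSixInst.patternTwo Fu hC1 hGW hτ hQ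
  obtain ⟨ρ, hρ⟩ := MSevenFf.Fus.exists_rho Fu hτ hQ
  have hmod := NumFive.card_mod hE hC hS hodd
  have hcl := ClBFive.closed Fu hQ hρ hB
  by_cases h3 : Fintype.card F = 3
  · have hO := KFive.core_eq_bot Fu hG hτ hQ hρ hB hC hS hodd (by omega)
    have hz1 : φ z ≠ 1 := by
      intro h1
      rw [← map_one φ] at h1
      exact absurd (hE.inj h1) (by decide)
    have hz2 : orderOf (φ z) = 2 := by
      refine orderOf_eq_prime ?_ hz1
      rw [← map_pow]
      have : z ^ 2 = 1 := by decide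
      rw [this, map_one]
    have h7 : 2 ^ 7 ∣ Nat.card (Subgroup.centralizer ({φ z} : Set G)) := by
      have h1 := Subgroup.card_dvd_of_le (MSevenFa.S_le_H hE)
      rw [hE.card] at h1
      exact h1
    refine QThreeLU.concl (R G) ?_ hz2 h3 hC hO h7
    intro hc
    obtain ⟨a, b, hab⟩ := hnc
    exact hab (hc.1.1 a b)
  · by_cases h5 : Fintype.card F = 5
    · obtain ⟨ρ', hI⟩ := InpFiveInst.exists_inp Fu hG hτ hQ hB hC hS h5
      exact hI.concl
    · have h3' : 3 < Fintype.card F := by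
        have h4 : 1 < Fintype.card F := Fintype.one_lt_card
        rw [Nat.odd_iff] at hodd
        omega
      have hL := LBFive.exists_lb hE hC hS hodd h3' (by omega)
        (KFive.core_inv_x2 Fu hG hτ hQ hρ hB hC hS hodd)
      obtain ⟨ε, N, hP⟩ := PreFive.pre hE hL hρ hodd h3' hmod h5
      exact Final.concl (hP.toInp hcl) (hP.sup_eq_top hcl) h484 h485

end Cfsg.Agent.LFour.PatTwo
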