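import Cfsg.Agent.LFour.Concl
import Cfsg.Agent.LFourA.SylPsl
import Cfsg.Agent.LFourA.FusionMain
import Cfsg.Agent.LFourB.ToBOne
import Cfsg.Agent.LFourB.MBSeven

/-!
# Statement S0510 from its four branches
-/

set_option autoImplicit false

namespace Cfsg.Agent.LFour

open Cfsg.Agent.LFourA.Model Cfsg.Agent.LFourA.Defs Cfsg.Agent.LFourB

universe u v

/-- A simple group with more than two elements has no homomorphism onto a group of order two. -/
theorem hom_units_trivial {G : Type u} [Group G] [Finite G] [IsSimpleGroup G] (h2 : 2 < Nat.card G) (φ : G →* ℤˣ) (x : G) :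
    φ x = 1 := by
  rcases IsSimpleGroup.eq_bot_or_eq_top_of_normal φ.ker inferInstance with h | h
  · exfalso
    have hinj : Function.Injective φ := (MonoidHom.ker_eq_bot_iff φ).1 h
    have := Nat.card_le_card_of_injective φ hinj
    have h3 : Nat.card ℤˣ = 2 := by rw [Nat.card_eq_fintype_card]; rfl
    omega
  · exact MonoidHom.mem_ker.1 (h ▸ Subgroup.mem_top x)

theorem two_lt_card_of_dwr {G : Type u} [Group G] [Finite G] {S : Subgroup G} {k : ℕ} {f : D k → D k → G} {w : G}
    (h : DWr S k f w) : 2 < Nat.card G := by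
  have h1 : Function.Injective (fun x : D k × D k => f x.1 x.2) := by
    rintro ⟨a, b⟩ ⟨a', b'⟩ e
    obtain ⟨rfl, rfl⟩ := (Cfsg.Agent.LFourA.Base.f_eq_iff h).1 e
    rfl
  have h2 := Nat.card_le_card_of_injective _ h1
  rw [Nat.card_prod, card_D] at h2
  have h3 : 1 ≤ 2 ^ k := Nat.one_le_two_pow
  nlinarith

/-- **S0510 from the four branches.** -/
theorem main (hA1 : BranchA1.{u}) (hA2 : BranchA2.{u}) (hB1 : BranchB1.{u}) (hB5 : BranchB5.{u})
    {G : Type u} [Group G] [Finite G] [IsSimpleGroup G]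
    {F : Type v} [Field F] [Fintype F] (hF : Odd (Fintype.card F)) (S : Sylow 2 G)
    (P : Sylow 2 (Matrix.ProjectiveSpecialLinearGroup (Fin 4) F))
    (hS : Nonempty ((S : Subgroup G) ≃* (P : Subgroup (Matrix.ProjectiveSpecialLinearGroup (Fin 4) F)))) : Concl G := by
  have hF2 : Fintype.card F % 2 = 1 := Nat.odd_iff.1 hF
  have h4 : Fintype.card F % 4 = 3 ∨ Fintype.card F % 8 = 1 ∨ Fintype.card F % 8 = 5 := by omega
  rcases h4 with h4 | h4 | h4
  · obtain ⟨k, m, f, w, h, -, -⟩ := Cfsg.Agent.LFourA.SylPsl.exists_dwr h4 (S : Subgroup G) P hS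
    have hG := hom_units_trivial (two_lt_card_of_dwr h)
    obtain ⟨f', h', hc | hc⟩ := Cfsg.Agent.LFourA.FusionMain.main h hG
    · exact hA1 G S k f' w h' hc
    · exact hA2 G S k f' w h' hc
  · obtain ⟨e⟩ := hS
    obtain ⟨m, r, f, u, w, -, -, h⟩ := Cfsg.Agent.LFourB.Mono.exists_BOne h4 S P e
    exact hB1 G S m f u w h
  · obtain ⟨e⟩ := hS
    obtain ⟨f, d, h⟩ := Cfsg.Agent.LFourB.Mono.exists_MB_two h4 S P e
    exact hB5 G S (Cfsg.Agent.LFourB.MBSeven.nonempty_equiv h)

end Cfsg.Agent.LFour
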