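import Cfsg.Agent.LFour.ConclR
import Cfsg.Agent.LFourB.MathieuFus
import Cfsg.Agent.LFourB.McLEnd

/-!
# Statement S0510: the branch `q = 5 mod 8` (`|S| = 2 ^ 7`)

`G` simple with a Sylow 2-subgroup isomorphic to `M7`. The four fusion patterns: `M₂₂` (a1), `PSL₄`, `PSU₄` (a2),
`M₂₃` (b1), `McL` (b2). The external theorems are universal propositions, collected in `Ext`; pattern (a2) is `PatTwo`.
-/

set_option autoImplicit false
set_option linter.unusedSectionVars false

namespace Cfsg.Agent.LFour.BFive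

open Subgroup Cfsg
open Cfsg.Agent.LFourB M7 MSevenFd MSevenFf StepEight

universe u

/-- Glauberman's `Z*`-theorem (S0215) -/
def ZStar : Prop :=
  ∀ (G : Type u) [Group G] [Finite G] (P : Sylow 2 G) (u : G), orderOf u = 2 → u ∈ P →
    (∀ g : G, g * u * g⁻¹ ∈ P → g * u * g⁻¹ = u) →
    ∃ N : Subgroup G, N.Normal ∧ Odd (Nat.card N) ∧ ∀ g : G, (u * g * u⁻¹ * g⁻¹) ∈ N

/-- pattern (a2) -/
def PatTwo : Prop :=
  ∀ (G : Type u) [Group G] [Finite G] [IsSimpleGroup G] (S : Sylow 2 G) (φ : M7 →* G),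
    Fus S φ → ¬ Tau φ → Q2 φ → ConclLU G

/-- patterns (a1) and (b1) -/
def PatMathieu : Prop :=
  ∀ (G : Type u) [Group G] [Finite G] [IsSimpleGroup G] (S : Sylow 2 G) (φ : M7 →* G),
    Fus S φ → ¬ Q2 φ → Cfsg.IsM22 G ∨ Cfsg.IsM23 G

/-- pattern (b2) -/
def PatMcL : Prop :=
  ∀ (G : Type u) [Group G] [Finite G] [IsSimpleGroup G] (S : Sylow 2 G) (φ : M7 →* G),
    Fus S φ → Tau φ → Q2 φ → Cfsg.Agent.GH.Defs.HasAltCover G ∧ Cfsg.IsMcL G

section

variable {G : Type u} [Group G] [Finite G]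

/-- an isomorphism `S ≃* M7` is an embedding -/
theorem emb (S : Sylow 2 G) (e : (S : Subgroup G) ≃* M7) :
    Emb7 (S : Subgroup G) ((S : Subgroup G).subtype.comp e.symm.toMonoidHom) where
  inj := by
    intro x y hxy
    exact e.symm.injective (Subtype.ext hxy)
  range := by
    ext y
    constructor
    · rintro ⟨x, rfl⟩
      exact (e.symm x).2
    · intro hy
      exact ⟨e ⟨y, hy⟩, by
        show ((e.symm (e ⟨y, hy⟩) : (S : Subgroup G)) : G) = y
        rw [e.symm_apply_apply]⟩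

/-- `z` is fused in `S` -/
theorem exists_fused [IsSimpleGroup G] (hZ : ZStar.{u}) {S : Sylow 2 G} {φ : M7 →* G}
    (h : Emb7 (S : Subgroup G) φ) : ∃ g : G, g * φ z * g⁻¹ ∈ (S : Subgroup G) ∧ g * φ z * g⁻¹ ≠ φ z := by
  by_contra hcon
  push Not at hcon
  have hz1 : φ z ≠ 1 := by
    intro h1
    rw [← map_one φ] at h1
    exact absurd (h.inj h1) (by decide)
  have hz2 : orderOf (φ z) = 2 := by
    refine orderOf_eq_prime ?_ hz1
    rw [← map_pow]
    have : z ^ 2 = 1 := by decide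
    rw [this, map_one]
  obtain ⟨N, hN, hodd, hc⟩ := hZ G S (φ z) hz2 (h.mem z) hcon
  rcases hN.eq_bot_or_eq_top with h1 | h1
  · have hcen : φ z ∈ center G := by
      rw [mem_center_iff]
      intro g
      have h2 := hc g
      rw [h1, mem_bot] at h2
      calc g * φ z = (φ z * g * (φ z)⁻¹ * g⁻¹) * (g * φ z) := by rw [h2, one_mul]
        _ = φ z * g := by group
    rcases (inferInstance : (center G).Normal).eq_bot_or_eq_top with h2 | h2
    · rw [h2, mem_bot] at hcen
      exact hz1 hcen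
    · have h3 : φ x1 * φ y1 = φ y1 * φ x1 := by
        have h4 : φ y1 ∈ center G := by rw [h2]; exact mem_top _
        exact mem_center_iff.1 h4 (φ x1)
      rw [← map_mul, ← map_mul] at h3
      exact absurd (h.inj h3) (by decide)
  · rw [h1, card_top] at hodd
    have h2 : 2 ∣ Nat.card G := by
      rw [← hz2]; exact orderOf_dvd_natCard _
    exact (Nat.not_even_iff_odd.2 hodd) (even_iff_two_dvd.2 h2)

end

/-- **The branch `q = 5 mod 8` from its patterns.** -/
theorem branch_of (hZ : ZStar.{u}) (hM : PatMathieu.{u}) (hA2 : PatTwo.{u}) (hB2 : PatMcL.{u}) : BranchB5R.{u} := by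
  intro G _ _ _ P ⟨e⟩
  have h := emb P e
  obtain ⟨φ, F, -⟩ := exists_fus h (EightInst.index_ne_two h) (exists_fused hZ h)
  by_cases hQ : Q2 φ
  · by_cases hτ : Tau φ
    · exact Or.inr (Or.inr (Or.inr (hB2 G P φ F hτ hQ)))
    · exact Or.inl (hA2 G P φ F hτ hQ)
  · rcases hM G P φ F hQ with h1 | h1
    · exact Or.inr (Or.inl h1)
    · exact Or.inr (Or.inr (Or.inl h1))

/-- the external theorems used in this branch (except for pattern (a2)) -/
structure Ext : Prop where
  /-- S0215 -/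
  zstar : ZStar.{u}
  /-- S0205 -/
  ft : CoverCore.Functor.FT.{u}
  /-- the solvable 2-signalizer functor theorem -/
  sf : CoverCore.Functor.SFT.{u}
  /-- S1221 -/
  se : CoverCore.Main.SECore.{u}
  /-- the McLaughlin group -/
  mcl : CoverCore.AltEnd.HMcL.{u}
  nine : CoverCore.AltEnd.HNine.{u}
  /-- S0509 -/
  h509 : KTenMain.H509.{u}
  comm : MathieuFus.Comm.{u}
  /-- S1169 -/
  gold : ∀ (L : Type u) [Group L] [Finite L] [IsSimpleGroup L], XKill.Gold L
  /-- S1174 -/
  gen : ∀ (L : Type u) [Group L] [Finite L] [IsSimpleGroup L], Gen L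
  /-- S0222 -/
  ben : ∀ (L : Type u) [Group L] [Finite L] [IsSimpleGroup L], (∃ a b : L, a * b ≠ b * a) → Bender L
  /-- S1179 -/
  timm : ∀ (L : Type u) [Group L] [Finite L] [IsSimpleGroup L], ¬ IsMulCommutative L → Timm L

theorem exists_noncomm {G : Type u} [Group G] [Finite G] {S : Sylow 2 G} {φ : M7 →* G}
    (h : Emb7 (S : Subgroup G) φ) : ∃ a b : G, a * b ≠ b * a := by
  refine ⟨φ x1, φ y1, fun e => ?_⟩
  rw [← map_mul, ← map_mul] at e
  exact absurd (h.inj e) (by decide)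

theorem patMathieu (E : Ext.{u}) : PatMathieu.{u} := by
  intro G _ _ _ S φ F hQ
  have hnc := exists_noncomm F.emb
  refine MathieuFus.main E.comm E.gold F hQ (fun X => E.ft X) (E.gen G) (E.ben G hnc) (E.timm G ?_)
  intro hc
  obtain ⟨a, b, hab⟩ := hnc
  exact hab (hc.1.1 a b)

theorem patMcL (E : Ext.{u}) : PatMcL.{u} :=
  fun _ _ _ _ _ _ F hτ hQ => McLEnd.main E.ft E.sf E.se E.mcl E.nine E.h509 F hτ hQ

/-- **The branch `q = 5 mod 8`.** -/
theorem branchB5R (E : Ext.{u}) (hA2 : PatTwo.{u}) : BranchB5R.{u} :=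
  branch_of E.zstar (patMathieu E) hA2 (patMcL E)

end Cfsg.Agent.LFour.BFive
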