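import Cfsg.Agent.LFour.BFive
import Cfsg.Agent.S0205
import Cfsg.Agent.S0215
import Cfsg.Agent.S1169
import Cfsg.Agent.S1174
import Cfsg.Agent.S0222
import Cfsg.Agent.S1221
import Cfsg.Agent.TwoFusion.ClosedCommutator
import Cfsg.Agent.SignalizersComponents.SolFunctorTwo

/-!
# Statement S0510: the external theorems of the branch `q = 5 mod 8`
-/

set_option autoImplicit false

namespace Cfsg.Agent.LFour.BFiveExt

open Subgroup Cfsg
open Cfsg.Agent.LFourB StepEight BFive

universe u

theorem ft : CoverCore.Functor.FT.{u} := fun _ _ _ h => Cfsg.Agent.S0205.result h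

theorem zstar : ZStar.{u} := fun _ _ _ P u h1 h2 h3 => Cfsg.Agent.S0215.result P u h1 h2 h3

theorem comm : MathieuFus.Comm.{u} :=
  fun _ _ _ P A B h1 h2 h3 => Cfsg.Agent.TwoFusion.ClosedCommutator.commutator_le P A B h1 h2 h3

theorem gold : ∀ (L : Type u) [Group L] [Finite L] [IsSimpleGroup L], XKill.Gold L :=
  fun _ _ _ _ S A h1 h2 h3 => Cfsg.Agent.S1169.result S A h1 h2 h3

theorem gen : ∀ (L : Type u) [Group L] [Finite L] [IsSimpleGroup L], Gen L :=
  fun _ _ _ _ S T h1 h2 h3 => Cfsg.Agent.S1174.result S T h1 h2 h3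

theorem ben : ∀ (L : Type u) [Group L] [Finite L] [IsSimpleGroup L], (∃ a b : L, a * b ≠ b * a) → Bender L :=
  fun _ _ _ _ h H hH => Cfsg.Agent.S0222.result h H hH

theorem se : CoverCore.Main.SECore.{u} := fun _ _ _ H hH => Cfsg.Agent.S1221.result H hH

theorem sf : CoverCore.Functor.SFT.{u} :=
  fun _ _ _ A h1 h2 h3 θ h4 h5 h6 h7 h8 =>
    Cfsg.Agent.SignalizersComponents.SolFunctorTwo.solvable_signalizer_functor_two A h1 h2 h3 θ h4 h5 h6 h7 h8

/-- **The external theorems, except for S0509, S1179 and the McLaughlin group.** -/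
theorem ext (hmcl : CoverCore.AltEnd.HMcL.{u}) (hnine : CoverCore.AltEnd.HNine.{u}) (h509 : KTenMain.H509.{u})
    (htimm : ∀ (L : Type u) [Group L] [Finite L] [IsSimpleGroup L], ¬ IsMulCommutative L → Timm L) : Ext.{u} where
  zstar := zstar
  ft := ft
  sf := sf
  se := se
  mcl := hmcl
  nine := hnine
  h509 := h509
  comm := comm
  gold := gold
  gen := gen
  ben := ben
  timm := htimm

end Cfsg.Agent.LFour.BFiveExt
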