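import Cfsg.Agent.LFour.BFiveExt
import Cfsg.Agent.CoverCore.Discharge
import Cfsg.Agent.S0509
import Cfsg.Agent.S1179

/-!
# Statement S0510: the external theorems of the branch `q = 5 mod 8`, complete
-/

set_option autoImplicit false

namespace Cfsg.Agent.LFour.BFiveFull

open Subgroup Cfsg
open Cfsg.Agent.LFourB StepEight BFive

universe u

/-- S0509 -/
theorem h509 : KTenMain.H509.{u} := fun _ _ _ _ _ _ _ hF S P hS => Cfsg.Agent.S0509.result hF S P hS

/-- S1179 -/
theorem timm (L : Type u) [Group L] [Finite L] [IsSimpleGroup L] (hL : ¬ IsMulCommutative L) : Timm L :=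
  fun A h1 h2 h3 => Cfsg.Agent.S1179.result hL A h1 h2 h3

/-- **All external theorems of the branch.** -/
theorem ext : Ext.{u} :=
  BFiveExt.ext CoverCore.InstMcL.hMcL CoverCore.InstNine.hNine h509 timm

end Cfsg.Agent.LFour.BFiveFull
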