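import Cfsg.Statements.S0510
import Cfsg.Agent.LFourA.Defs
import Cfsg.Agent.LFourB.BOne
import Cfsg.Agent.LFourB.MSeven

/-!
# Statement S0510: the conclusion and the four branches

`Concl G` is the conclusion of S0510.  `BranchA1` (Sylow 2-subgroup `D wr 2`, fusion of `PSL_4(q)`), `BranchA2` (`D wr 2`,
fusion of `A_10`), `BranchB1` (`q = 1 mod 8`), `BranchB5` (`q = 5 mod 8`) are the four parts of the proof.
-/

set_option autoImplicit false

namespace Cfsg.Agent.LFour

open Cfsg.Agent.LFourA.Model Cfsg.Agent.LFourA.Defs Cfsg.Agent.LFourB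

universe u

/-- The conclusion of S0510. -/
def Concl (G : Type u) [Group G] : Prop :=
    (∃ (K : Type) (_ : Field K) (_ : Fintype K), Odd (Fintype.card K) ∧
        Nonempty (G ≃* Matrix.ProjectiveSpecialLinearGroup (Fin 4) K)) ∨
      (∃ (K : Type) (_ : Field K) (_ : Fintype K) (r : ℕ), Fintype.card K = r ^ 2 ∧ Odd r ∧
        Nonempty (G ≃* Cfsg.PSU 4 K r)) ∨
      Nonempty (G ≃* alternatingGroup (Fin 10)) ∨ Nonempty (G ≃* alternatingGroup (Fin 11)) ∨
      Cfsg.IsM22 G ∨ Cfsg.IsM23 G ∨ Cfsg.IsMcL G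

/-- `G` simple with Sylow 2-subgroup `D wr 2` and the fusion pattern of `PSL_4(q)`, `PSU_4(q)`. -/
def BranchA1 : Prop :=
  ∀ (G : Type u) [Group G] [Finite G] [IsSimpleGroup G] (P : Sylow 2 G) (k : ℕ) (f : D k → D k → G) (w : G),
    DWr (P : Subgroup G) k f w → CaseI f w → Concl G

/-- `G` simple with Sylow 2-subgroup `D wr 2` and the fusion pattern of `A_10`. -/
def BranchA2 : Prop :=
  ∀ (G : Type u) [Group G] [Finite G] [IsSimpleGroup G] (P : Sylow 2 G) (k : ℕ) (f : D k → D k → G) (w : G),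
    DWr (P : Subgroup G) k f w → CaseII f w → Concl G

/-- `G` simple with the Sylow 2-subgroup of `PSL_4(q)`, `q = 1 mod 8`. -/
def BranchB1 : Prop :=
  ∀ (G : Type u) [Group G] [Finite G] [IsSimpleGroup G] (P : Sylow 2 G) (m : ℕ) (f : R m → R m → R m → G) (u w : G),
    BOne (P : Subgroup G) m f u w → Concl G

/-- `G` simple with the Sylow 2-subgroup of `PSL_4(q)`, `q = 5 mod 8`. -/
def BranchB5 : Prop :=
  ∀ (G : Type u) [Group G] [Finite G] [IsSimpleGroup G] (P : Sylow 2 G),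
    Nonempty ((P : Subgroup G) ≃* M7) → Concl G

end Cfsg.Agent.LFour
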