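import Mathlib
import Cfsg.Agent.LFour.ConclR
import Cfsg.Agent.LFourA.KlGlue
import Cfsg.Agent.LFourA.KlL
import Cfsg.Agent.LFourA.KlFinal
import Cfsg.Agent.LFourR.Final
import Cfsg.Agent.LFourR.InpAPre
import Cfsg.Agent.LFourR.QThreeEnd

/-!
# S0510, branch A1: Sylow 2-subgroup `D wr 2` with the fusion pattern of `PSL_4(q)`, `PSU_4(q)`

The heavy theorems are hypotheses: the commutator half of S1171 (`hC1`), S0483 (`hGW`), S0484, S0485 and the two
recognition theorems of S1759 for `q = 3` (`RecAA`).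
-/

set_option autoImplicit false

namespace Cfsg.Agent.LFour

open Subgroup DihedralGroup Cfsg
open Cfsg.Agent.LFourA.Model Cfsg.Agent.LFourA.Base Cfsg.Agent.LFourA.Defs Cfsg.Agent.LFourA.CzCt
open Cfsg.Agent.LFourA Cfsg.Agent.LFourR

universe u

/-- The conclusion for `q = 3`. -/
theorem conclLU_dwr {G : Type u} [Group G] [Finite G] [IsSimpleGroup G] (R : QThreeEnd.RecAA G)
    {P : Subgroup G} {k : ℕ} {f : D k → D k → G} {w : G} (hS : DWr P k f w)
    {X : Type*} [Group X] {F : Type*} [Field F] [Fintype F] (h3 : Fintype.card F = 3)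
    {p : ↥(centralizer ({f (c k) (c k)} : Set G)) →* X}
    {K₁ K₂ : Subgroup X} (h : CZL (f (c k) (c k)) F p K₁ K₂)
    (hO : centralizerPPrimeCore 2 (f (c k) (c k)) = ⊥) : ConclLU G := by
  have hle : P ≤ centralizer ({f (c k) (c k)} : Set G) := by
    intro g hg
    rw [mem_centralizer_singleton_iff]
    rcases mem_cases hS hg with ⟨a, b, rfl⟩ | ⟨a, b, rfl⟩
    · rw [hS.f_mul, hS.f_mul, c_comm, c_comm]
    · rw [fw_mul_f hS, ← mul_assoc, hS.f_mul, c_comm, c_comm]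
  have hnc : ¬ IsMulCommutative G := by
    intro hc
    have h1 : f (c k) 1 * w = w * f (c k) 1 := hc.is_comm.comm _ _
    rw [hS.w_f] at h1
    have h2 := mul_right_cancel h1
    rw [f_eq_iff hS] at h2
    exact c_ne_one h2.1
  have hz : orderOf (f (c k) (c k)) = 2 := by
    refine orderOf_eq_prime ?_ ?_
    · rw [pow_two, hS.f_mul, c_mul_c, f_one hS]
    · intro h1
      exact c_ne_one (hS.f_inj _ _ h1).1
  have h7 : 2 ^ 7 ∣ Nat.card (Subgroup.centralizer ({f (c k) (c k)} : Set G)) := by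
    have h1 := Subgroup.card_dvd_of_le hle
    rw [card_S hS] at h1
    exact (Dvd.intro _ rfl : (2 : ℕ) ^ 7 ∣ 128 * 4 ^ k).trans h1
  obtain ⟨Q, i, j, l, m, x₁, x₂, y, s, hC⟩ := QThreeEnd.exists_aa hnc hz h3 h hO h7
  by_cases h1 : ∀ g : G, g * f (c k) (c k) * g⁻¹ ∈ Q → g * f (c k) (c k) * g⁻¹ = f (c k) (c k)
  · obtain ⟨F, i1, i2, hF, e⟩ := R.aa Q _ i j l m x₁ x₂ y s hC h1
    exact Or.inl ⟨F, i1, i2, by rw [hF]; exact ⟨1, rfl⟩, e⟩
  · push Not at h1
    obtain ⟨g, hg, hne⟩ := h1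
    obtain ⟨F, i1, i2, hF, e⟩ := R.aa' Q _ i j l m x₁ x₂ y s g hC hg hne
    exact Or.inr ⟨F, i1, i2, 3, by rw [hF]; norm_num, ⟨1, rfl⟩, e⟩

theorem branchA1LU
    (hC1 : ∀ (G : Type u) [Group G] [Finite G] (P : Sylow 2 G) (A B : Subgroup G), A ⊓ B = ⊥ →
      Cfsg.IsStronglyClosed A (P : Subgroup G) → Cfsg.IsStronglyClosed B (P : Subgroup G) →
      ⁅Subgroup.normalClosure (A : Set G), Subgroup.normalClosure (B : Set G)⁆ ≤ Cfsg.oddCore G)
    (hGW : ∀ (X : Type u) [Group X] [Finite X] [Group.IsPerfect X]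
      (S : Sylow 2 X) (n : ℕ), 2 ≤ n → Nonempty ((S : Subgroup X) ≃* DihedralGroup n) →
      (∃ (F : Type) (_ : Field F) (_ : Fintype F), Odd (Fintype.card F) ∧ 3 < Fintype.card F ∧
        Nonempty (X ⧸ Cfsg.oddCore X ≃* Matrix.ProjectiveSpecialLinearGroup (Fin 2) F)) ∨
      Nonempty (X ⧸ Cfsg.oddCore X ≃* alternatingGroup (Fin 7)))
    (h484 : ∀ (F : Type) [Field F] [Fintype F], St484.{u, 0} F)
    (h485 : ∀ (K : Type) [Field K] [Fintype K] (q : ℕ), St485.{u, 0} K q)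
    (R : ∀ (G : Type u) [Group G] [Finite G] [IsSimpleGroup G], QThreeEnd.RecAA G) : BranchA1LU.{u} := by
  intro G _ _ _ P k f w h hI
  obtain ⟨X, i1, i2, p, K₁, K₂, F, i3, i4, X', i5, i6, p', K, F₂, i7, i8, hodd, Z, zp, hodd2, T, tp, -, -, hcard⟩ :=
    KlFinal.final hC1 hGW h hI
  have h2 := KlFinal.two_ne hodd
  have h2' := KlFinal.two_ne hodd2
  rw [Nat.card_eq_fintype_card, Nat.card_eq_fintype_card] at hcard
  have hG := hom_units_trivial (two_lt_card_of_dwr h)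
  by_cases h3 : Fintype.card F = 3
  · exact conclLU_dwr (R G) h h3 Z (KlGlue.core_eq_bot h hI h2 h2' hcard h3 Z zp T tp)
  · have h3' : 3 < Fintype.card F := by
      have h4 : 1 < Fintype.card F := Fintype.one_lt_card
      rw [Nat.odd_iff] at hodd
      omega
    have hI' := KlGlue.caseI_shift h hG hI
    have h' := FusionMain.shift h
    have B := KlGlue.exists_bals h hI h2 h2' hcard h3 Z zp T tp
    have B' : KlCore.Bals (fun a b => f (FusionMain.sh k a) (FusionMain.sh k b)) :=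
      KlGlue.exists_bals h' hI' h2 h2' hcard h3 Z (KlGlue.zpos_shift h zp) T (KlGlue.tpos_shift tp)
    have inv₁ := KlCore.inv₁ h B B'
    have inv₂ := KlCore.inv₂ h B B'
    have h9 : Fintype.card F = 9 → ¬ 3 ∣ Nat.card (centralizerPPrimeCore 2 (f (c k) (c k))) := by
      intro h9
      refine KlL.not_three_dvd h (by rw [hcard, h9]; norm_num) T tp ?_ (inv₂ 0 1 (Or.inl rfl)) ?_
      · -- `t` is a product of two swaps
        intro o ho
        have h4 := inv₁ ((2 * 2 ^ k : ℕ) : ZMod (4 * 2 ^ k)) 1 (Or.inl rfl) o ho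
        have h5 := inv₁ 0 1 (Or.inl rfl) _ (inv_mem ho)
        rw [inv_inv] at h5
        have h6 : f (c k) 1 = f (sr 0) 1 * f (sr ((2 * 2 ^ k : ℕ) : ZMod (4 * 2 ^ k))) 1 := by
          rw [h.f_mul, sr_mul_sr, sub_zero, one_mul]; rfl
        have h7 : f (c k) 1 * o * (f (c k) 1)⁻¹ = o := by
          rw [h6]
          calc f (sr 0) 1 * f (sr ((2 * 2 ^ k : ℕ) : ZMod (4 * 2 ^ k))) 1 * o *
                (f (sr 0) 1 * f (sr ((2 * 2 ^ k : ℕ) : ZMod (4 * 2 ^ k))) 1)⁻¹ =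
              f (sr 0) 1 * (f (sr ((2 * 2 ^ k : ℕ) : ZMod (4 * 2 ^ k))) 1 * o *
                (f (sr ((2 * 2 ^ k : ℕ) : ZMod (4 * 2 ^ k))) 1)⁻¹) * (f (sr 0) 1)⁻¹ := by group
            _ = o := by rw [h4, h5]
        exact (mul_inv_eq_iff_eq_mul.1 h7).symm
      · intro o ho ho'
        have h4 := B.iso (mem_inf.2 ⟨ho, ho'⟩)
        refine B.delta (c k) (Facts.c_mem_V 0) 1 (one_mem _) (Facts.t_ne_one h) ?_ o ho ho' ?_
        · intro h5
          exact c_ne_one ((f_eq_iff h).1 h5).2.symm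
        · rw [c_mul_c, mul_one]
          exact h4
    have L := KlL.lcent h Z zp hodd h3' h9 inv₁ inv₂
    obtain ⟨ε, N, ρ, H, hgen⟩ := InpA.exists_inp h hI L hodd h3' hcard T tp
    exact Final.concl H hgen h484 h485

/-- **Branch A1.** -/
theorem branchA1
    (hC1 : ∀ (G : Type u) [Group G] [Finite G] (P : Sylow 2 G) (A B : Subgroup G), A ⊓ B = ⊥ →
      Cfsg.IsStronglyClosed A (P : Subgroup G) → Cfsg.IsStronglyClosed B (P : Subgroup G) →
      ⁅Subgroup.normalClosure (A : Set G), Subgroup.normalClosure (B : Set G)⁆ ≤ Cfsg.oddCore G)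
    (hGW : ∀ (X : Type u) [Group X] [Finite X] [Group.IsPerfect X]
      (S : Sylow 2 X) (n : ℕ), 2 ≤ n → Nonempty ((S : Subgroup X) ≃* DihedralGroup n) →
      (∃ (F : Type) (_ : Field F) (_ : Fintype F), Odd (Fintype.card F) ∧ 3 < Fintype.card F ∧
        Nonempty (X ⧸ Cfsg.oddCore X ≃* Matrix.ProjectiveSpecialLinearGroup (Fin 2) F)) ∨
      Nonempty (X ⧸ Cfsg.oddCore X ≃* alternatingGroup (Fin 7)))
    (h484 : ∀ (F : Type) [Field F] [Fintype F], St484.{u, 0} F)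
    (h485 : ∀ (K : Type) [Field K] [Fintype K] (q : ℕ), St485.{u, 0} K q)
    (R : ∀ (G : Type u) [Group G] [Finite G] [IsSimpleGroup G], QThreeEnd.RecAA G) : BranchA1.{u} :=
  (branchA1LU hC1 hGW h484 h485 R).branch

end Cfsg.Agent.LFour
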