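import Cfsg.Agent.LargeExtra.W2.LFour.Main
import Cfsg.Agent.LargeExtra.W2.U43.Main
import Cfsg.Agent.LFourR.QThreeEnd

/-!
# S0510: the recognition theorems of S1759 for `L₄(3)`, `U₄(3)`
-/

set_option autoImplicit false

namespace Cfsg.Agent.LFour.RecAA

universe u

/-- `RecAA` holds for every finite simple group. -/
theorem recAA (G : Type u) [Group G] [Finite G] [IsSimpleGroup G] : LFourR.QThreeEnd.RecAA G where
  aa := fun Q z i j k l x₁ x₂ y s h hw => LargeExtra.W2.LFour.Main.recognize Q z i j k l x₁ x₂ y s h hw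
  aa' := fun Q z i j k l x₁ x₂ y s g h hg hne => by
    haveI : Fact (Nat.Prime 3) := ⟨Nat.prime_three⟩
    haveI : Finite (GaloisField 3 2) := by
      refine Nat.finite_of_card_ne_zero ?_
      rw [GaloisField.card 3 2 (by norm_num)]
      norm_num
    letI : Fintype (GaloisField 3 2) := Fintype.ofFinite _
    have hF : Fintype.card (GaloisField 3 2) = 9 := by
      rw [← Nat.card_eq_fintype_card, GaloisField.card 3 2 (by norm_num)]
      norm_num
    exact ⟨GaloisField 3 2, inferInstance, inferInstance, hF,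
      LargeExtra.W2.U43.Main.recog_aa_II h ⟨g, hg, hne⟩ (GaloisField 3 2) hF⟩

end Cfsg.Agent.LFour.RecAA
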