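import Cfsg.Agent.LFour.BranchAOne
import Cfsg.Agent.LFour.RecAA
import Cfsg.Agent.LFour.BFiveFull
import Cfsg.Agent.LFourA.AltBranch
import Cfsg.Agent.TwoFusion.ClosedCommutator
import Cfsg.Agent.S0205
import Cfsg.Agent.S0483
import Cfsg.Agent.S0484
import Cfsg.Agent.S0485

/-!
# S0510: the branches A1, A2, B5 with their external theorems
-/

set_option autoImplicit false

namespace Cfsg.Agent.LFour.ExtMain

open Subgroup Cfsg

universe u v

/-- S0205 -/
theorem ft : LFourA.AltZ9.FT.{u} := fun _ _ _ h => Cfsg.Agent.S0205.result h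

/-- the commutator theorem for strongly closed 2-subgroups -/
theorem commThm : LFourA.AltFive.CommThm.{u} :=
  fun _ _ _ P A B h hA hB => Cfsg.Agent.TwoFusion.ClosedCommutator.commutator_le P A B h hA hB

/-- S0483 -/
theorem gw : LFourA.AltFinal.GWPerf.{u} := fun _ _ _ _ S n hn hS => Cfsg.Agent.S0483.result S n hn hS

/-- S0484 -/
theorem h484 (F : Type) [Field F] [Fintype F] : LFourR.St484.{u, 0} F :=
  fun _ _ _ _ hF Z _ hc ho t ht hC => Cfsg.Agent.S0484.result hF Z hc ho t ht hC

/-- S0485 -/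
theorem h485 (K : Type) [Field K] [Fintype K] (q : ℕ) : LFourR.St485.{u, 0} K q :=
  fun _ _ _ _ hq hF Z _ hc ho t ht hC => Cfsg.Agent.S0485.result q hq hF Z hc ho t ht hC

/-- **Branch A1.** -/
theorem branchA1 : BranchA1LU.{u} :=
  branchA1LU commThm gw (fun F => h484 F) (fun K _ _ q => h485 K q) (fun G => RecAA.recAA G)

/-- **Branch A2.** -/
theorem branchA2 : BranchA2A.{u} := LFourA.AltBranch.branchA2A ft commThm gw

/-- **Branch B5** from the pattern of `PSL_4`, `PSU_4`. -/
theorem branchB5_of (h : BFive.PatTwo.{u}) : BranchB5R.{u} := BFive.branchB5R BFiveFull.ext h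

end Cfsg.Agent.LFour.ExtMain
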